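import Mathlib
import Groth.Prelude.Def_KoszulSh
import Groth.Prelude.Def_FlatMod2
import Groth.Agent.Lib.Lead.QC.AmpleIso
import Groth.Agent.Lib.Lead.QC.BiprodSec

/-! # The standard basis of sections of a finite free module -/

set_option autoImplicit false
universe u

open CategoryTheory AlgebraicGeometry Opposite TopologicalSpace Limits

namespace Groth.Agent.H8.KSh

open Groth.Agent.LD.QC

variable (Z : Scheme.{u}) (K : ℕ) (W : Z.Opens)

/-- the standard sections. -/
noncomputable def stdSec (k : Fin K) : Γ(FlatMod.freeMod Z K, W) :=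
  (Sigma.ι (fun _ : Fin K => Coh.structureModule Z) k).app W (OmegaSh.strSect Z W 1)

lemma proj_ι_app (i j : Fin K) (a : Γ(Z, W)) :
    (freeProj Z K i).app W ((Sigma.ι (fun _ : Fin K => unitMod Z) j).app W a) =
      if j = i then a else 0 := by
  have h : Sigma.ι (fun _ : Fin K => unitMod Z) j ≫ freeProj Z K i =
      if j = i then 𝟙 _ else 0 := by
    rw [freeProj, Sigma.ι_desc]
  rw [← comp_app', h]
  split_ifs
  · rfl
  · rfl

/-- coordinates of sections of the free module. -/
noncomputable def freeEquiv : Γ(FlatMod.freeMod Z K, W) ≃ₗ[Γ(Z, W)] (Fin K → Γ(Z, W)) where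
  toFun x := fun j => (freeProj Z K j).app W x
  invFun v := ∑ j, (Sigma.ι (fun _ : Fin K => unitMod Z) j).app W (v j)
  map_add' x y := by
    funext j
    exact map_add ((freeProj Z K j).app W).hom x y
  map_smul' r x := by
    funext j
    exact (freeProj Z K j).app_smul r x
  left_inv x := by
    have h2 := sum_app (fun j => freeProj Z K j ≫ Sigma.ι (fun _ : Fin K => unitMod Z) j) W x
    rw [freeProj_total] at h2
    exact h2.symm
  right_inv v := by
    funext i
    change (freeProj Z K i).app W (∑ j, (Sigma.ι (fun _ : Fin K => unitMod Z) j).app W (v j)) = v i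
    rw [map_sum]
    simp only [proj_ι_app]
    have h := Finset.sum_ite_eq' (Finset.univ) i (fun x => (v x : Γ(unitMod Z, W)))
    rw [if_pos (Finset.mem_univ i)] at h
    exact h

/-- the standard basis. -/
noncomputable def stdBasis : Module.Basis (Fin K) Γ(Z, W) Γ(FlatMod.freeMod Z K, W) :=
  Module.Basis.ofEquivFun (freeEquiv Z K W)

lemma stdBasis_apply (k : Fin K) : stdBasis Z K W k = stdSec Z K W k := by
  rw [stdBasis, Module.Basis.coe_ofEquivFun]
  change ∑ j, (Sigma.ι (fun _ : Fin K => unitMod Z) j).app W ((Pi.single k 1 : Fin K → Γ(Z, W)) j) = _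
  rw [Finset.sum_eq_single k]
  · rw [Pi.single_eq_same]
    rfl
  · intro j _ hj
    rw [Pi.single_eq_of_ne hj]
    exact map_zero ((Sigma.ι (fun _ : Fin K => unitMod Z) j).app W).hom
  · intro h
    exact absurd (Finset.mem_univ k) h

end Groth.Agent.H8.KSh
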