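import Mathlib
import Groth.Prelude.Def_CAlg
import Groth.Agent.Lib.Helper6.CMKit

/-! # Generators of a height-`c` ideal in a Cohen–Macaulay local ring form a regular sequence -/

set_option autoImplicit false
universe u

namespace Groth.Agent.H8.KSh

open RingTheory.Sequence

theorem ringKrullDim_quotient_add_le {R : Type u} [CommRing R] (J : Ideal R) (hJ : J ≠ ⊤) (c : ℕ)
    (hc : (c : ℕ∞) ≤ J.height) :
    ringKrullDim (R ⧸ J) + (c : WithBot ℕ∞) ≤ ringKrullDim R := by
  rw [ringKrullDim_quotient]
  obtain ⟨m, hm, hJm⟩ := Ideal.exists_le_maximal J hJ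
  haveI : Nonempty (PrimeSpectrum.zeroLocus (J : Set R)) := ⟨⟨⟨m, hm.isPrime⟩, hJm⟩⟩
  haveI : Nonempty (PrimeSpectrum R) := ⟨⟨m, hm.isPrime⟩⟩
  rw [Order.krullDim_eq_iSup_coheight_of_nonempty, ringKrullDim,
    Order.krullDim_eq_iSup_height_add_coheight_of_nonempty]
  have : ((c : ℕ∞) : WithBot ℕ∞) = (c : WithBot ℕ∞) := rfl
  rw [← this, ← WithBot.coe_add, WithBot.coe_le_coe, ENat.iSup_add]
  apply iSup_le
  intro a
  refine le_trans ?_ (le_iSup (fun b : PrimeSpectrum R => Order.height b + Order.coheight b) a.1)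
  rw [add_comm]
  refine add_le_add ?_ ?_
  · refine hc.trans ?_
    rw [← PrimeSpectrum.height_eq_orderHeight]
    exact Ideal.height_mono a.2
  · exact Order.coheight_le_coheight_apply_of_strictMono Subtype.val
      (fun _ _ h => h) a


theorem isWeaklyRegular_of_height_ge {R : Type u} [CommRing R]
    [hR : LocCoh.IsCohenMacaulayLocalRing R] (xs : List R) (hne : Ideal.ofList xs ≠ ⊤)
    (h : (xs.length : ℕ∞) ≤ (Ideal.ofList xs).height) : IsWeaklyRegular R xs := by
  haveI : IsNoetherianRing R := inferInstance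
  haveI : IsLocalRing R := inferInstance
  have hmem : ∀ x ∈ xs, x ∈ IsLocalRing.maximalIdeal R := fun x hx =>
    IsLocalRing.le_maximalIdeal hne (Ideal.subset_span hx)
  refine Groth.Agent.H6.CM.isWeaklyRegular_of_supportDim xs R hR.supportDim_eq_depth hmem ?_
  apply le_antisymm
  · have h1 := ringKrullDim_quotient_add_le (Ideal.ofList xs) hne xs.length h
    have h2 : (Ideal.ofList xs • (⊤ : Submodule R R)) = Ideal.ofList xs := by simp
    rw [Module.supportDim_self_eq_ringKrullDim,
      Module.supportDim_eq_of_equiv (Submodule.quotEquivOfEq _ _ h2),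
      Module.supportDim_quotient_eq_ringKrullDim]
    exact h1
  · exact Groth.Agent.H6.CM.supportDim_le_add_length xs R hmem

end Groth.Agent.H8.KSh
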