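import Mathlib
import Groth.Prelude.Def_KoszulSh
import Groth.Agent.Lib.Helper6.KosExtE
import Groth.Agent.Lib.Helper6.KosExtF
import Groth.Agent.S15821

/-! # Ring-level exactness of the exterior Koszul complex of a weakly regular sequence. -/

set_option autoImplicit false
universe u

namespace Groth.Agent.H8.KSh

open ExteriorAlgebra Groth.Agent.H6.KosExt

variable {R : Type u} [CommRing R] {M : Type u} [AddCommGroup M] [Module R M]

/-- The contraction of a decomposable element. -/
lemma D_ιMulti (θ : Module.Dual R M) : ∀ (p : ℕ) (e : Fin (p + 1) → M),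
    D θ (ExteriorAlgebra.ιMulti R (p + 1) e) =
      ∑ i : Fin (p + 1), ((-1 : R) ^ (i : ℕ) * θ (e i)) •
        ExteriorAlgebra.ιMulti R p (fun j => e (i.succAbove j))
  | 0, e => by
    rw [ιMulti_succ_apply, D_ι_mul, ιMulti_zero_apply]
    have h1 : D θ (1 : ExteriorAlgebra R M) = 0 := by
      have := D_algebraMap θ (1 : R)
      rwa [map_one] at this
    rw [h1, mul_zero, sub_zero, Fin.sum_univ_one, ιMulti_zero_apply]
    simp
  | p + 1, e => by
    rw [ιMulti_succ_apply, D_ι_mul, D_ιMulti θ p (Matrix.vecTail e)]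
    conv_rhs => rw [Fin.sum_univ_succ]
    have h0 : (fun j => e ((0 : Fin (p + 2)).succAbove j)) = Matrix.vecTail e := by
      funext j
      simp [Matrix.vecTail]
    rw [h0]
    have hs : ∀ i : Fin (p + 1),
        ExteriorAlgebra.ιMulti R (p + 1) (fun j => e (i.succ.succAbove j)) =
          ι R (e 0) * ExteriorAlgebra.ιMulti R p (fun j => Matrix.vecTail e (i.succAbove j)) := by
      intro i
      rw [ιMulti_succ_apply]
      congr 2
      funext j
      simp [Matrix.vecTail]
    simp only [hs, Finset.mul_sum, mul_smul_comm]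
    rw [sub_eq_add_neg, ← Finset.sum_neg_distrib]
    congr 1
    · simp
    · apply Finset.sum_congr rfl
      intro i _
      rw [← neg_smul]
      congr 1
      simp [Matrix.vecTail, pow_succ]


/-- `dGen` is the contraction of the decomposable element. -/
lemma dGen_coe (φ : Module.Dual R M) (p : ℕ) (e : Fin (p + 1) → M) :
    ((KoszSh.dGen φ p e : ⋀[R]^p M) : ExteriorAlgebra R M) =
      D φ (ExteriorAlgebra.ιMulti R (p + 1) e) := by
  rw [D_ιMulti, KoszSh.dGen]
  simp only [Submodule.coe_sum, Submodule.coe_smul, exteriorPower.ιMulti_apply_coe]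

lemma dk_ιMulti (φ : Module.Dual R M) (p : ℕ) (e : Fin (p + 1) → M) :
    dk φ p (exteriorPower.ιMulti R (p + 1) e) = KoszSh.dGen φ p e := by
  apply Subtype.ext
  rw [dk_coe, dGen_coe]
  rfl

/-- A basis mapping to a weakly regular sequence gives an exact exterior Koszul complex. -/
theorem exactPos_of_basis {n : ℕ} (b : Module.Basis (Fin n) R M) (φ : Module.Dual R M)
    (h : RingTheory.Sequence.IsWeaklyRegular R (List.ofFn fun k => φ (b k))) : ExactPos φ := by
  intro k y hy hDy
  let F : Fin n → R := fun k => φ (b k)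
  have hF : LCI.IsKoszulRegularSeq R (List.ofFn F) := (Groth.Agent.S15821.result R _ h).1
  let c : M ≃ₗ[R] (Fin n → R) := b.equivFun
  have hφ : (theta F) ∘ₗ (c : M →ₗ[R] (Fin n → R)) = φ := by
    apply b.ext
    intro i
    simp only [LinearMap.coe_comp, LinearEquiv.coe_coe, Function.comp_apply, c]
    have h2 : b.equivFun (b i) = Pi.single i 1 := by
      funext j
      rw [Module.Basis.equivFun_self, Pi.single_apply]
      simp [eq_comm]
    rw [h2, theta_single]
  have hφ' : φ ∘ₗ (c.symm : (Fin n → R) →ₗ[R] M) = theta F := by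
    rw [← hφ]
    ext v
    simp
  have h1 : ∀ x, map (c.symm : (Fin n → R) →ₗ[R] M) (map (c : M →ₗ[R] (Fin n → R)) x) = x := by
    intro x
    have : (map (c.symm : (Fin n → R) →ₗ[R] M)).comp (map (c : M →ₗ[R] (Fin n → R))) =
        AlgHom.id R _ := by
      rw [map_comp_map]
      have : (c.symm : (Fin n → R) →ₗ[R] M) ∘ₗ (c : M →ₗ[R] (Fin n → R)) = LinearMap.id := by
        ext; simp
      rw [this, map_id]
    exact congrArg (fun G : ExteriorAlgebra R M →ₐ[R] ExteriorAlgebra R M => G x) this
  have hy' : map (c : M →ₗ[R] (Fin n → R)) y ∈ ⋀[R]^(k + 1) (Fin n → R) := map_mem_pow _ _ hy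
  have hD' : D (theta F) (map (c : M →ₗ[R] (Fin n → R)) y) = 0 := by
    rw [D_map, hφ, hDy, map_zero]
  obtain ⟨z', hz', hDz'⟩ := exact_of_koszulRegular F hF k _ hy' hD'
  refine ⟨map (c.symm : (Fin n → R) →ₗ[R] M) z', map_mem_pow _ _ hz', ?_⟩
  rw [D_map, hφ', hDz', h1]

/-- Good pairs are stable under localization. -/
theorem exists_basis_of_isLocalizedModule {n : ℕ} (b : Module.Basis (Fin n) R M)
    (φ : Module.Dual R M)
    (h : RingTheory.Sequence.IsWeaklyRegular R (List.ofFn fun k => φ (b k)))
    {R' : Type u} [CommRing R'] [Algebra R R'] (S : Submonoid R) [IsLocalization S R']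
    {M' : Type u} [AddCommGroup M'] [Module R M'] [Module R' M'] [IsScalarTower R R' M']
    (ℓ : M →ₗ[R] M') [IsLocalizedModule S ℓ] (φ' : Module.Dual R' M')
    (hφ : ∀ m, φ' (ℓ m) = algebraMap R R' (φ m)) :
    ∃ b' : Module.Basis (Fin n) R' M',
      RingTheory.Sequence.IsWeaklyRegular R' (List.ofFn fun k => φ' (b' k)) := by
  refine ⟨b.ofIsLocalizedModule R' S ℓ, ?_⟩
  have h1 : (List.ofFn fun k => φ' (b.ofIsLocalizedModule R' S ℓ k)) =
      (List.ofFn fun k => φ (b k)).map (algebraMap R R') := by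
    rw [List.map_ofFn]
    congr 1
    funext k
    simp only [Function.comp_apply, Module.Basis.ofIsLocalizedModule_apply, hφ]
  rw [h1]
  exact h.of_isLocalization R' S

end Groth.Agent.H8.KSh
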