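import Mathlib
import Groth.Prelude.Def_KoszulSh
import Groth.Prelude.Def_FlatMod2
import Groth.Agent.Lib.Helper8.KSh.Ring
import Groth.Agent.Lib.Helper3.OmBasis
import Groth.Agent.Lib.Lead.QC.FinType
import Groth.Agent.Lib.Lead.QC.LocFree

/-! # Exactness of Koszul complexes of regular sections of finite locally free modules -/

set_option autoImplicit false
universe u

open CategoryTheory AlgebraicGeometry Opposite TopologicalSpace

namespace Groth.Agent.H8.KSh

open Groth.Agent.H6.KosExt Groth.Agent.LD.QC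

variable {X : Scheme.{u}} {E : X.Modules} {s : E ⟶ Coh.structureModule X}

/-- A good open: affine with a basis of sections mapping to a weakly regular sequence. -/
def Good (E : X.Modules) (s : E ⟶ Coh.structureModule X) (n : ℕ) (V : X.Opens) : Prop :=
  IsAffineOpen V ∧ ∃ b : Module.Basis (Fin n) Γ(X, V) Γ(E, V),
    RingTheory.Sequence.IsWeaklyRegular Γ(X, V) (List.ofFn fun k => KoszSh.secForm s V (b k))

lemma secForm_res (s : E ⟶ Coh.structureModule X) {U V : X.Opens} (h : V ≤ U) (m : Γ(E, U)) :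
    KoszSh.secForm s V (E.presheaf.map (homOfLE h).op m) =
      X.presheaf.map (homOfLE h).op (KoszSh.secForm s U m) := by
  rw [KoszSh.secForm_apply, KoszSh.secForm_apply, app_res]
  rfl

lemma good_basicOpen [E.IsQuasicoherent] (n : ℕ) {V : X.Opens} (hV : Good E s n V) (f : Γ(X, V)) :
    Good E s n (X.basicOpen f) := by
  obtain ⟨hVa, b, hb⟩ := hV
  refine ⟨hVa.basicOpen f, ?_⟩
  letI : Algebra Γ(X, V) Γ(X, X.basicOpen f) := resAlgebra (X.basicOpen_le f)
  letI : Module Γ(X, V) Γ(E, X.basicOpen f) := resModule E (X.basicOpen_le f)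
  haveI : IsScalarTower Γ(X, V) Γ(X, X.basicOpen f) Γ(E, X.basicOpen f) :=
    resModule_isScalarTower E (X.basicOpen_le f)
  haveI : IsLocalization.Away f Γ(X, X.basicOpen f) := hVa.isLocalization_basicOpen f
  haveI : IsLocalizedModule.Away f (resLinear E (X.basicOpen_le f)) :=
    isLocalizedModule_basicOpen E hVa f
  exact exists_basis_of_isLocalizedModule b (KoszSh.secForm s V) hb (Submonoid.powers f)
    (resLinear E (X.basicOpen_le f)) (KoszSh.secForm s (X.basicOpen f))
    (fun m => secForm_res s (X.basicOpen_le f) m)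

lemma isBasis_good [E.IsQuasicoherent] (n : ℕ)
    (hs : ∀ x : X, ∃ U : X.Opens, x ∈ U ∧ Good E s n U) :
    Opens.IsBasis {V : X.Opens | Good E s n V} := by
  rw [Opens.isBasis_iff_nbhd]
  intro U x hxU
  obtain ⟨U₀, hxU₀, hU₀⟩ := hs x
  obtain ⟨f, hf, hxf⟩ := hU₀.1.exists_basicOpen_le (V := U) ⟨x, hxU⟩ hxU₀
  exact ⟨X.basicOpen f, good_basicOpen n hU₀ f, hxf, hf⟩


/-- The differential of a Koszul complex read through `loc`. -/
lemma loc_d (C : KoszSh.Cx E s) (p : ℕ) (U : X.affineOpens) (x : Γ(C.K.X (p + 1), U.1)) :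
    C.loc p U ((C.K.d (p + 1) p).app U.1 x) =
      dk (KoszSh.secForm s U.1) p (C.loc (p + 1) U x) := by
  obtain ⟨w, rfl⟩ := (C.loc (p + 1) U).symm.surjective x
  rw [LinearEquiv.apply_symm_apply]
  have hw : w ∈ Submodule.span Γ(X, U.1)
      (Set.range (exteriorPower.ιMulti Γ(X, U.1) (p + 1) (M := Γ(E, U.1)))) := by
    rw [exteriorPower.ιMulti_span]
    trivial
  induction hw using Submodule.span_induction with
  | mem w hw =>
    obtain ⟨e, rfl⟩ := hw
    rw [C.rule, LinearEquiv.apply_symm_apply, dk_ιMulti]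
  | zero => simp
  | add a b _ _ ha hb =>
    rw [map_add, map_add, map_add, map_add, ha, hb]
  | smul r a _ ha =>
    rw [map_smul, Scheme.Modules.Hom.app_smul, map_smul, map_smul, ha]

/-- Exactness of a Koszul complex of a regular section in positive degrees. -/
theorem isZero_homology_of_good [E.IsQuasicoherent] (n : ℕ)
    (hs : ∀ x : X, ∃ U : X.Opens, x ∈ U ∧ Good E s n U)
    (C : KoszSh.Cx E s) (q : ℕ) (hq : 1 ≤ q) :
    Limits.IsZero (C.K.homology q) := by
  obtain ⟨k, rfl⟩ : ∃ k, q = k + 1 := ⟨q - 1, by omega⟩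
  rw [← HomologicalComplex.exactAt_iff_isZero_homology,
    HomologicalComplex.exactAt_iff' C.K (k + 2) (k + 1) k (by simp) (by simp)]
  obtain ⟨w, hw⟩ := Groth.Agent.H3.Om.exact_of_basis (C.K.d (k + 2) (k + 1)) (C.K.d (k + 1) k)
    {V : X.Opens | Good E s n V} (isBasis_good n hs)
    (fun V _ t => by
      have h2 : (C.K.d (k + 2) (k + 1) ≫ C.K.d (k + 1) k).app V t = 0 := by
        rw [C.K.d_comp_d]
        rfl
      rwa [Scheme.Modules.Hom.comp_app, ConcreteCategory.comp_apply] at h2)
    (fun V hV m hm => by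
      obtain ⟨hVa, b, hb⟩ := hV
      let U : X.affineOpens := ⟨V, hVa⟩
      have hex := exactPos_of_basis b (KoszSh.secForm s V) hb
      have h1 := loc_d C k U m
      have hm' : (C.K.d (k + 1) k).app U.1 m = 0 := hm
      rw [hm', map_zero] at h1
      have h2 : D (KoszSh.secForm s V) ((C.loc (k + 1) U m : ⋀[Γ(X, V)]^(k + 1) Γ(E, V)) :
          ExteriorAlgebra Γ(X, V) Γ(E, V)) = 0 := by
        have := congrArg Subtype.val h1
        rw [dk_coe] at this
        exact this.symm
      obtain ⟨z, hz, hDz⟩ := hex k _ (C.loc (k + 1) U m).2 h2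
      refine ⟨(C.loc (k + 2) U).symm ⟨z, hz⟩, ?_⟩
      apply (C.loc (k + 1) U).injective
      have h3 := loc_d C (k + 1) U ((C.loc (k + 2) U).symm ⟨z, hz⟩)
      rw [LinearEquiv.apply_symm_apply] at h3
      refine h3.trans ?_
      apply Subtype.ext
      rw [dk_coe]
      exact hDz)
  exact hw

end Groth.Agent.H8.KSh
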