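import Mathlib
import Groth.Prelude.Def_KoszulSh
import Groth.Prelude.Def_FlatMod2
import Groth.Agent.Lib.Helper8.KSh.CMReg
import Groth.Agent.Lib.Helper8.KSh.Exact
import Groth.Agent.Lib.Helper1.RegSpread
import Groth.Agent.Lib.Helper1.RegImmGeo
import Groth.Agent.Lib.Helper1.CartierKit
import Groth.Agent.Lib.Helper8.KSh.Free
import Groth.Agent.Lib.Lead.QC.LocFree2

/-! # Local complete intersections in Cohen–Macaulay schemes: affine regular sequences -/

set_option autoImplicit false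
set_option linter.style.haveILetI false
universe u

open CategoryTheory AlgebraicGeometry Opposite TopologicalSpace

namespace Groth.Agent.H8.KSh

open RingTheory.Sequence Groth.Agent.LD.QC

lemma isWeaklyRegular_map_ringEquiv {R S : Type*} [CommRing R] [CommRing S] (e : R ≃+* S)
    (rs : List R) : IsWeaklyRegular R rs ↔ IsWeaklyRegular S (rs.map e) :=
  (e.toAddEquiv).isWeaklyRegular_congr (List.forall₂_map_right_iff.mpr
    (List.forall₂_same.mpr fun r _ x => by
      change e (r * x) = e r * e x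
      exact map_mul e r x))

lemma ofList_ofFn {R : Type*} [CommRing R] {n : ℕ} (y : Fin n → R) :
    Ideal.ofList (List.ofFn y) = Ideal.span (Set.range y) := by
  unfold Ideal.ofList
  congr 1
  ext x
  simp [List.mem_ofFn]

/-- Part A: around a point of a local complete intersection in a CM scheme, the ideal is
generated by a weakly regular sequence on an affine open. -/
theorem exists_affine_weaklyRegular {X Y : Scheme.{u}} [IsLocallyNoetherian X]
    (hCM : ∀ x : X, LocCoh.IsCohenMacaulayLocalRing (X.presheaf.stalk x))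
    (i : Y ⟶ X) [IsClosedImmersion i] (c : ℕ)
    (hgen : ∀ y : Y, ∃ U : X.affineOpens, i.base y ∈ U.1 ∧ ∃ g : Fin c → Γ(X, U.1),
      i.ker.ideal U = Ideal.span (Set.range g))
    (hht : ∀ y : Y, (c : ℕ∞) ≤ (RingHom.ker (i.stalkMap y).hom).height) (y : Y) :
    ∃ U : X.affineOpens, i.base y ∈ U.1 ∧ ∃ f : Fin c → Γ(X, U.1),
      i.ker.ideal U = Ideal.span (Set.range f) ∧ IsWeaklyRegular Γ(X, U.1) (List.ofFn f) := by
  obtain ⟨U₀, hx, g, hI⟩ := hgen y
  haveI : IsNoetherianRing Γ(X, U₀.1) := IsLocallyNoetherian.component_noetherian U₀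
  letI : Algebra Γ(X, U₀.1) (X.presheaf.stalk (i y)) :=
    X.presheaf.algebra_section_stalk ⟨i y, hx⟩
  haveI hloc := U₀.2.isLocalization_stalk ⟨i y, hx⟩
  haveI := hCM (i y)
  have hker : RingHom.ker (i.stalkMap y).hom =
      (i.ker.ideal U₀).map (algebraMap Γ(X, U₀.1) (X.presheaf.stalk (i y))) :=
    Groth.Agent.H1.RegImm.ker_stalkMap_of_isClosedImmersion i U₀ y hx
  have hne : RingHom.ker (i.stalkMap y).hom ≠ ⊤ := RingHom.ker_ne_top _
  have hIp : i.ker.ideal U₀ ≤ (U₀.2.primeIdealOf ⟨i y, hx⟩).asIdeal := by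
    intro t ht
    rw [← IsLocalization.AtPrime.to_map_mem_maximal_iff (X.presheaf.stalk (i y))
      (U₀.2.primeIdealOf ⟨i y, hx⟩).asIdeal]
    apply IsLocalRing.le_maximalIdeal hne
    rw [hker]
    exact Ideal.mem_map_of_mem _ ht
  set as : List Γ(X, U₀.1) := List.ofFn g with has_def
  have hofl : Ideal.ofList as = i.ker.ideal U₀ := by rw [hI, has_def, ofList_ofFn]
  have has : ∀ a ∈ as, a ∈ i.ker.ideal U₀ := by
    intro a ha
    rw [← hofl]
    exact Ideal.subset_span ha
  have hgen' : Ideal.ofList (as.map (algebraMap Γ(X, U₀.1) (X.presheaf.stalk (i y)))) =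
      (i.ker.ideal U₀).map (algebraMap Γ(X, U₀.1) (X.presheaf.stalk (i y))) := by
    rw [← Ideal.map_ofList, hofl]
  have hreg : IsWeaklyRegular (X.presheaf.stalk (i y))
      (as.map (algebraMap Γ(X, U₀.1) (X.presheaf.stalk (i y)))) := by
    apply isWeaklyRegular_of_height_ge
    · rw [hgen', ← hker]; exact hne
    · rw [hgen', ← hker, List.length_map, has_def, List.length_ofFn]
      exact hht y
  obtain ⟨g₀, hg₀, hregg, hgeng⟩ := Groth.Agent.H1.Spread.exists_away_isRegular
    (U₀.2.primeIdealOf ⟨i y, hx⟩).asIdeal (X.presheaf.stalk (i y)) (i.ker.ideal U₀) hIp as has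
    hreg hgen'
  refine ⟨X.affineBasicOpen g₀, ?_, fun k => X.presheaf.map (homOfLE (X.basicOpen_le g₀)).op (g k),
    ?_, ?_⟩
  · by_contra hcon
    exact hg₀ ((Groth.Agent.H1.CartierKit.mem_primeIdealOf_iff U₀.2 (i y) hx g₀).mpr hcon)
  · rw [← i.ker.map_ideal_basicOpen U₀ g₀, hI, Ideal.map_span, ← Set.range_comp]
    rfl
  · letI : Algebra Γ(X, U₀.1) Γ(X, X.basicOpen g₀) := resAlgebra (X.basicOpen_le g₀)
    haveI : IsLocalization.Away g₀ Γ(X, X.basicOpen g₀) := U₀.2.isLocalization_basicOpen g₀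
    let e : Localization.Away g₀ ≃ₐ[Γ(X, U₀.1)] Γ(X, X.basicOpen g₀) :=
      IsLocalization.algEquiv (Submonoid.powers g₀) (Localization.Away g₀) Γ(X, X.basicOpen g₀)
    have h1 := (isWeaklyRegular_map_ringEquiv e.toRingEquiv _).mp hregg.toIsWeaklyRegular
    have h2 : (as.map (algebraMap Γ(X, U₀.1) (Localization.Away g₀))).map e.toRingEquiv =
        List.ofFn fun k => X.presheaf.map (homOfLE (X.basicOpen_le g₀)).op (g k) := by
      rw [List.map_map, has_def, List.map_ofFn]
      congr 1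
      funext k
      exact e.commutes (g k)
    rw [h2] at h1
    exact h1


/-- Part B: the Koszul complex of a free pair with weakly regular images is a resolution. -/
theorem isZero_homology_free {X : Scheme.{u}} (U : X.affineOpens) (c : ℕ) (f : Fin c → Γ(X, U.1))
    (hf : IsWeaklyRegular Γ(X, U.1) (List.ofFn f))
    (s : FlatMod.freeMod (↑U.1) c ⟶ Coh.structureModule (↑U.1))
    (hs : ∀ k : Fin c, KoszSh.secForm s ⊤ (stdSec (↑U.1) c ⊤ k) = U.1.topIso.inv (f k))
    (C : KoszSh.Cx (FlatMod.freeMod (↑U.1) c) s) (q : ℕ) (hq : 1 ≤ q) :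
    Limits.IsZero (C.K.homology q) := by
  haveI : IsAffine (↑U.1 : Scheme.{u}) := U.2
  haveI : (FlatMod.freeMod (↑U.1 : Scheme.{u}) c).IsQuasicoherent :=
    qc_of_isFinLocFree _ (isFinLocFree_freeMod _ c)
  refine isZero_homology_of_good c (fun x => ⟨⊤, trivial, isAffineOpen_top _,
    stdBasis (↑U.1) c ⊤, ?_⟩) C q hq
  let e : Γ(X, U.1) ≃+* Γ((↑U.1 : Scheme.{u}), ⊤) := (U.1.topIso.symm).commRingCatIsoToRingEquiv
  have h1 := (isWeaklyRegular_map_ringEquiv e _).mp hf
  have h2 : (List.ofFn f).map e =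
      List.ofFn fun k => KoszSh.secForm s ⊤ (stdBasis (↑U.1 : Scheme.{u}) c ⊤ k) := by
    rw [List.map_ofFn]
    congr 1
    funext k
    rw [stdBasis_apply, hs k]
    rfl
  rw [h2] at h1
  exact h1

end Groth.Agent.H8.KSh
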